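import Groth.Agent.L27.XV.Transfer

/-! # Universal local acyclicity of the maps of strict localizations -/

universe u

open CategoryTheory CategoryTheory.Limits AlgebraicGeometry Opposite IsLocalRing

set_option autoImplicit false
set_option backward.isDefEq.respectTransparency.types false
set_option linter.style.haveILetI false
set_option linter.unusedSectionVars false

noncomputable section

namespace Groth.L27.ULA

theorem isULocAcyclicN_baseChange {X Y X₂ Y₂ : Scheme.{u}} {g : X ⟶ Y} {g₂ : X₂ ⟶ Y₂} {u : X₂ ⟶ X} {v : Y₂ ⟶ Y}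
    (c : IsPullback u g₂ g v) {L : Set ℕ} {n : ℕ} (hg : EtAcyc.IsULocAcyclicN g L n) :
    EtAcyc.IsULocAcyclicN g₂ L n :=
  fun X₁ Y₁ g₁ b' b c' => hg g₁ (b' ≫ u) (b ≫ v) (c'.paste_horiz c)

/-- Universal local acyclicity passes to weakly etale schemes over the source. -/
theorem isULocAcyclicN_weaklyEtale {X' X Y : Scheme.{u}} (u : X' ⟶ X) [WeaklyEtale u] {g : X ⟶ Y} {L : Set ℕ} {n : ℕ}
    (hg : EtAcyc.IsULocAcyclicN g L n) : EtAcyc.IsULocAcyclicN (u ≫ g) L n := by
  intro X₁ Y₁ g₁ b' b c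
  let uT : X₁ ⟶ pullback g b := pullback.lift (b' ≫ u) g₁ (by rw [Category.assoc]; exact c.w)
  have cu : IsPullback b' uT u (pullback.fst g b) := by
    refine IsPullback.of_bot (v₁₁ := uT) (v₁₂ := u) ?_ (pullback.lift_fst _ _ _).symm (IsPullback.of_hasPullback g b)
    show IsPullback b' (uT ≫ pullback.snd g b) (u ≫ g) b
    rw [pullback.lift_snd]
    exact c
  haveI : WeaklyEtale uT := MorphismProperty.of_isPullback (P := @WeaklyEtale) cu inferInstance
  haveI : WeaklyEtale (𝟙 Y₁) := inferInstance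
  exact XV.onStrict_transfer uT (𝟙 Y₁) (by rw [pullback.lift_snd, Category.comp_id])
    (hg (pullback.snd g b) (pullback.fst g b) b (IsPullback.of_hasPullback g b))

/-- The maps of strict localizations of a universally locally acyclic morphism are universally locally acyclic. -/
theorem isULocAcyclicN_strict {Y' Y : Scheme.{u}} (g : Y' ⟶ Y) {L : Set ℕ} {n : ℕ}
    (hg : EtAcyc.IsULocAcyclicN g L n) (x : Y') (RS RX : Type u) [CommRing RS] [IsLocalRing RS]
    [Algebra (Y.presheaf.stalk (g.base x)) RS] [IsLocalHom (algebraMap (Y.presheaf.stalk (g.base x)) RS)]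
    [Hensel.IsStrictHenselization (Y.presheaf.stalk (g.base x)) RS] [CommRing RX] [IsLocalRing RX]
    [Algebra (Y'.presheaf.stalk x) RX] [IsLocalHom (algebraMap (Y'.presheaf.stalk x) RX)]
    [Hensel.IsStrictHenselization (Y'.presheaf.stalk x) RX] (ψ : RS →+* RX) [IsLocalHom ψ]
    (hψ : ψ.comp (algebraMap (Y.presheaf.stalk (g.base x)) RS) =
      (algebraMap (Y'.presheaf.stalk x) RX).comp (g.stalkMap x).hom) :
    EtAcyc.IsULocAcyclicN (Spec.map (CommRingCat.ofHom ψ)) L n ∧
      EtAcyc.IsAcyclicN (Spec.map (CommRingCat.ofHom ψ)) L n := by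
  obtain ⟨_, _⟩ := StalkBC.henselian_strict x RX
  obtain ⟨_, _⟩ := StalkBC.henselian_strict (X := Y) (g.base x) RS
  let ηS := Hens2.specOf Y (g.base x) RS
  let ηX := Hens2.specOf Y' x RX
  haveI : WeaklyEtale ηS := Acyclic0.weaklyEtale_fromStrict _ RS
  haveI : WeaklyEtale ηX := Acyclic0.weaklyEtale_fromStrict x RX
  have hw : ηX ≫ g = Spec.map (CommRingCat.ofHom ψ) ≫ ηS := (StalkBC.specOf_comp g x RS RX ψ hψ).symm
  let u := pullback.lift ηX (Spec.map (CommRingCat.ofHom ψ)) hw
  haveI : WeaklyEtale (u ≫ pullback.fst g ηS) := by rw [pullback.lift_fst]; infer_instance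
  haveI : WeaklyEtale (pullback.fst g ηS) := MorphismProperty.pullback_fst (P := @WeaklyEtale) _ _ inferInstance
  haveI : WeaklyEtale u := WeaklyEtale.of_comp u (pullback.fst g ηS)
  refine ⟨?_, ?_⟩
  · have := isULocAcyclicN_weaklyEtale u (isULocAcyclicN_baseChange (IsPullback.of_hasPullback g ηS) hg)
    rwa [pullback.lift_snd] at this
  · letI : Algebra RS RX := ψ.toAlgebra
    haveI : IsLocalHom (algebraMap RS RX) := ‹IsLocalHom ψ›
    exact hg g (𝟙 _) (𝟙 _) (IsPullback.of_horiz_isIso ⟨by simp⟩) x RS RX hψ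

end Groth.L27.ULA
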