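import Groth.Agent.L27.ULA.Stages
import Groth.Agent.L27.PBC.FieldVanish
import Groth.Agent.L27.FinBC.FibreAcyclicN
import Groth.Agent.L27.XV.BaseZero
import Groth.Agent.L19.Limit.Topo
import Groth.Agent.S4768

/-! # Fibres over arbitrary separably closed fields are acyclic -/

universe u

open CategoryTheory CategoryTheory.Limits AlgebraicGeometry Opposite IsLocalRing Abelian

set_option autoImplicit false
set_option backward.isDefEq.respectTransparency.types false
set_option linter.style.haveILetI false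
set_option linter.unusedSectionVars false

noncomputable section

namespace Groth.L27.ULA

open Groth.L27.LimCoh Groth.L27.FinBC

/-- Global constants of a connected scheme. -/
theorem nonempty_H0_connected (X : Scheme.{u}) [ConnectedSpace X] (l : ℕ) [NeZero l] :
    Nonempty (EtCoh.H X (EtCoh.const X (ZMod l)) 0 ≃+ ZMod l) := by
  haveI : Nonempty X := inferInstance
  have hc : Function.Surjective (L28.ConstSect.c (ZMod l) (EtCoh.top X)) := fun s => by
    refine ⟨L28.ConstSect.val s (Classical.arbitrary X), L28.ConstSect.val_injective _ _ fun x => ?_⟩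
    rw [L28.ConstSect.val_c]
    haveI : PreconnectedSpace ↥(EtCoh.top X).left := inferInstanceAs (PreconnectedSpace X)
    exact ((L28.ConstSect.isLocallyConstant_val s).apply_eq_of_preconnectedSpace x _).symm
  let g : ZMod l →+ EtCoh.H X (EtCoh.const X (ZMod l)) 0 :=
    AddMonoidHom.mk' (constClass (ZMod l) X) fun a b => by
      have e : groupHom (ZMod l) (a + b) = groupHom (ZMod l) a + groupHom (ZMod l) b :=
        AddCommGrpCat.hom_ext (AddMonoidHom.ext fun z => smul_add z.down (ULift.up a) (ULift.up b))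
      rw [constClass, e, Functor.map_add, Ext.mk₀_add]
      rfl
  refine ⟨(AddEquiv.ofBijective g ⟨injective_constClass _ X, fun v => ?_⟩).symm⟩
  obtain ⟨a, rfl⟩ := (Ext.mk₀_bijective _ _).2 v
  obtain ⟨m, hm⟩ := hc (evalOne a)
  exact ⟨m, congrArg Ext.mk₀ (evalOne_injective ((evalOne_constClass _ m).trans hm))⟩

theorem primesIn_self {L : Set ℕ} {l : ℕ} (hl : l.Prime) (hlL : l ∈ L) : EtAcyc.PrimesIn L l :=
  ⟨hl.pos, fun p hp hd => by rwa [(Nat.prime_dvd_prime_iff_eq hp hl).1 hd]⟩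

theorem isLTorsion_const {L : Set ℕ} {l : ℕ} (hl : l.Prime) (hlL : l ∈ L) (X : Scheme.{u}) :
    EtAcyc.IsLTorsion L (EtCoh.const X (ZMod l)) := by
  refine DerBC.Killed.isLTorsion ⟨l, primesIn_self hl hlL, ?_⟩
  haveI : NeZero l := ⟨hl.ne_zero⟩
  have h0 := AffineEfface.nsmul_id_const X (ZMod l)
  rwa [Nat.card_zmod] at h0

variable {R : Type u} [CommRing R] {S' : Scheme.{u}} [IsAffine S'] (h : S' ⟶ Spec (CommRingCat.of R))
  {L : Set ℕ} {n : ℕ} (hu : EtAcyc.IsULocAcyclicN h L n) (ha : EtAcyc.IsAcyclicN h L n)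
  (Ω : Type u) [Field Ω] [IsSepClosed Ω] [Algebra R Ω]

include hu ha in
theorem compN_sub (j : (PBC.FGSub R Ω)ᵒᵖ) : EtAcyc.CompN (pullback.snd h (PBC.subStr R Ω j)) L n := by
  haveI : LocallyOfFiniteType (PBC.subStr R Ω j) := by
    haveI : Algebra.FiniteType R j.unop.1 := (Subalgebra.fg_iff_finiteType _).1 j.unop.2
    refine (HasRingHomProperty.Spec_iff (P := @LocallyOfFiniteType)).2 ?_
    show (algebraMap R ↥j.unop.1).FiniteType
    exact (RingHom.finiteType_algebraMap).2 inferInstance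
  haveI : IsAffine ((PBC.subSpec R Ω).obj j) := inferInstanceAs (IsAffine (Spec _))
  haveI : IsAffineHom (PBC.subStr R Ω j) := isAffineHom_of_isAffine _
  exact compN_finiteType h hu ha _

include hu ha in
/-- Fibres over separably closed fields are acyclic schemes. -/
theorem isAcyclicScheme_fibre (hL : ∃ l ∈ L, l.Prime) :
    EtAcyc.IsAcyclicSchemeN L n (pullback h (Spec.map (CommRingCat.ofHom (algebraMap R Ω)))) := by
  let s := Spec.map (CommRingCat.ofHom (algebraMap R Ω))
  let t := PBC.subStr R Ω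
  have ht : ∀ {A B : (PBC.FGSub R Ω)ᵒᵖ} (f : A ⟶ B), (PBC.subSpec R Ω).map f ≫ t B = t A := fun f => PBC.map_subStr R Ω f
  let Xs := L19.Limit.baseDiagram h t ht
  let c : Cone Xs := L19.Limit.baseCone h t ht (c := PBC.subCone R Ω) _ (PBC.cone_subStr R Ω)
  have hc : IsLimit c := L19.Limit.isLimitBaseCone h t ht _ (PBC.cone_subStr R Ω) (PBC.isLimitSubCone R Ω)
  haveI haff' : ∀ (A B : (PBC.FGSub R Ω)ᵒᵖ) (f : A ⟶ B), IsAffineHom (Xs.map f) := fun A B f =>
    L19.Limit.isAffineHom_baseDiagram_map h t ht f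
  haveI : IsAffineHom h := isAffineHom_of_isAffine h
  haveI hobj : ∀ b, IsAffine (Xs.obj b) := fun b => by
    haveI : IsAffine ((PBC.subSpec R Ω).obj b) := inferInstanceAs (IsAffine (Spec _))
    have h1 : IsAffineHom (pullback.snd h (t b)) :=
      MorphismProperty.of_isPullback (P := @IsAffineHom) (IsPullback.of_hasPullback h (t b)) inferInstance
    exact @isAffine_of_isAffineHom _ _ (pullback.snd h (t b)) h1 ‹_›
  have hqc : ∀ b, CompactSpace ↥(Xs.obj b) := fun b => inferInstance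
  have hqs : ∀ b, QuasiSeparatedSpace ↥(Xs.obj b) := fun b => inferInstance
  haveI : ∀ b, PreservesFiniteLimits (EtCoh.pull (c.π.app b)) := fun _ => EtSite.preservesFiniteLimits_pull _
  haveI : ∀ ⦃b b' : (PBC.FGSub R Ω)ᵒᵖ⦄ (h : b ⟶ b'), PreservesFiniteLimits (EtCoh.pull (Xs.map h)) := fun _ _ _ =>
    EtSite.preservesFiniteLimits_pull _
  obtain ⟨l₀, hl₀L, hl₀⟩ := hL
  haveI : Fact l₀.Prime := ⟨hl₀⟩
  have hstage : ∀ b, PreconnectedSpace ↥(Xs.obj b) := fun b => by
    haveI : ConnectedSpace ↥(Spec (CommRingCat.of b.unop.1)) := inferInstance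
    let f : Xs.obj b ⟶ Spec (CommRingCat.of b.unop.1) := pullback.snd h (t b)
    haveI : PreservesFiniteLimits (EtCoh.pull (pullback.snd h (PBC.subStr R Ω b))) := EtSite.preservesFiniteLimits_pull _
    haveI : PreservesFiniteLimits (EtCoh.pull f) := EtSite.preservesFiniteLimits_pull _
    obtain ⟨e⟩ := nonempty_H0_connected (Spec (CommRingCat.of b.unop.1)) l₀
    have hb := ((compN_sub h hu ha Ω b) _ (isLTorsion_const hl₀ hl₀L _)).1 0 (Nat.zero_le n)
    obtain ⟨-, h2⟩ := connectedSpace_of_H0 (Xs.obj b)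
      ⟨((AddEquiv.ofBijective (EtCore.Hpull f (EtCoh.const _ (ZMod l₀)) 0) hb).trans
        ((EtCoh.HF (Xs.obj b) 0).mapIso (EtCore.pullConst f (ZMod l₀))).addCommGroupIsoToAddEquiv).symm.trans e⟩
    exact h2.toPreconnectedSpace
  have hne : Nonempty ↥(pullback h s) := by
    obtain ⟨x, hx⟩ := XV.nonempty_fibre h (FinBC.geomFibres_of_isAcyclicN h L ⟨l₀, hl₀L, hl₀⟩ n ha) (s (closedPoint Ω))
    obtain ⟨z, -, -⟩ := Scheme.Pullback.exists_preimage_pullback (f := h) (g := s) x (closedPoint Ω) hx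
    exact ⟨z⟩
  let i₀ : PBC.FGSub R Ω := Classical.arbitrary _
  refine ⟨hne, ?_, fun l hl hlL q hq1 hqn => ?_⟩
  · haveI hp : PreconnectedSpace ↥c.pt := by
      by_contra hn
      haveI : CompactSpace ↥(Xs.obj (op i₀)) := hqc _
      haveI : QuasiSeparatedSpace ↥(Xs.obj (op i₀)) := hqs _
      obtain ⟨b, _, hb⟩ := Groth.Agent.S4768.result Xs c hc (op i₀) hn
      exact hb b (𝟙 b) (hstage b)
    haveI : PreconnectedSpace ↥(pullback h s) := hp
    exact ⟨hne⟩
  · obtain ⟨m, rfl⟩ : ∃ m, q = m + 1 := ⟨q - 1, by omega⟩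
    let F₀ : EtCoh.Ab (Xs.obj (op i₀)) := EtCoh.const _ (ZMod l)
    suffices h0 : ∀ ξ : EtCoh.H c.pt ((EtCoh.pull (c.π.app (op i₀))).obj F₀) (m + 1), ξ = 0 by
      let e := (EtCoh.HF c.pt (m + 1)).map (EtCore.pullConst (c.π.app (op i₀)) (ZMod l)).hom
      have he : Function.Bijective e := ConcreteCategory.bijective_of_isIso _
      refine ⟨fun x y => ?_⟩
      obtain ⟨x', rfl⟩ := he.2 x
      obtain ⟨y', rfl⟩ := he.2 y
      exact congrArg e ((h0 x').trans (h0 y').symm)
    intro ξ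
    obtain ⟨j, hj, η, rfl⟩ := (Groth.Agent.S0646.result Xs (fun _ _ f => haff' _ _ f) hqc hqs c hc i₀ F₀ (m + 1)).1 ξ
    let f : Xs.obj (op j) ⟶ (PBC.subSpec R Ω).obj (op j) := pullback.snd h (t (op j))
    let g : c.pt ⟶ Xs.obj (op j) := c.π.app (op j)
    let p' : c.pt ⟶ Spec (CommRingCat.of Ω) := pullback.snd h _
    let π : Spec (CommRingCat.of Ω) ⟶ (PBC.subSpec R Ω).obj (op j) := (PBC.subCone R Ω).π.app (op j)
    haveI : PreservesFiniteLimits (EtCoh.pull (pullback.snd h (PBC.subStr R Ω (op j)))) := EtSite.preservesFiniteLimits_pull _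
    haveI : PreservesFiniteLimits (EtCoh.pull f) := EtSite.preservesFiniteLimits_pull _
    haveI : PreservesFiniteLimits (EtCoh.pull g) := EtSite.preservesFiniteLimits_pull _
    haveI := EtSite.preservesFiniteLimits_pull p'
    haveI := EtSite.preservesFiniteLimits_pull π
    haveI : PreservesFiniteLimits (EtCoh.pull (g ≫ f)) := EtSite.preservesFiniteLimits_pull _
    let K : EtCoh.Ab ((PBC.subSpec R Ω).obj (op j)) := EtCoh.const _ (ZMod l)
    let tr := Xs.map (homOfLE hj).op
    let θ : (EtCoh.pull f).obj K ≅ (EtCoh.pull tr).obj F₀ :=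
      EtCore.pullConst f (ZMod l) ≪≫ (EtCore.pullConst tr (ZMod l)).symm
    have hb := ((compN_sub h hu ha Ω (op j)) K (isLTorsion_const hl hlL _)).1 (m + 1) hqn
    obtain ⟨z, hz⟩ := (ConcreteCategory.bijective_of_isIso ((EtCoh.HF _ (m + 1)).map θ.hom)).2 η
    obtain ⟨y, rfl⟩ := hb.2 z
    subst hz
    have hsq : p' ≫ π = g ≫ f := (L19.Limit.isPullback_baseCone h t ht _ (PBC.cone_subStr R Ω) (op j)).w.symm
    have hk : EtCore.Hpull (g ≫ f) K (m + 1) y = 0 := by
      haveI := L28.AcyComp.isIso_gamma p' π hsq K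
      haveI := L28.CurveCd.subsingleton_H_sepClosed (CommRingCat.of Ω) ((EtCoh.pull π).obj K) m
      refine (ConcreteCategory.bijective_of_isIso ((EtCoh.HF c.pt (m + 1)).map (gamma p' π hsq K))).1 ?_
      refine ((Hpull_comp p' π hsq (m + 1) K y).symm.trans ?_).trans (map_zero _).symm
      exact (congrArg _ (Subsingleton.elim (α := EtCoh.H (Spec (CommRingCat.of Ω)) ((EtCoh.pull π).obj K) (m + 1)) _ 0)).trans
        (map_zero _)
    have h1 : EtCore.Hpull g ((EtCoh.pull f).obj K) (m + 1) (EtCore.Hpull f K (m + 1) y) = 0 :=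
      (Hpull_comp g f rfl (m + 1) K y).trans ((congrArg _ hk).trans (map_zero _))
    have h2 : EtCore.Hpull g ((EtCoh.pull tr).obj F₀) (m + 1)
        ((EtCoh.HF _ (m + 1)).map θ.hom (EtCore.Hpull f K (m + 1) y)) = 0 :=
      (Hpull_map g θ.hom (m + 1) _).trans ((congrArg _ h1).trans (map_zero _))
    let ψ := (EtCoh.HF c.pt (m + 1)).map (((EtCore.pullComp (c.π.app (op j)) tr).symm ≪≫
      EtCore.pullCongr (c.w (homOfLE hj).op)).app F₀).hom
    exact Eq.trans (congrArg ψ.hom h2) (map_zero ψ.hom)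

end Groth.L27.ULA
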