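import Groth.Agent.L17.AcyclicMap
import Mathlib.Algebra.Homology.DerivedCategory.HomologySequence

/-! # Left exact functors on partially acyclic bounded below complexes -/

set_option autoImplicit false
set_option linter.style.haveILetI false
set_option linter.unusedSectionVars false

universe w v u v' u' w'

open CategoryTheory CategoryTheory.Limits Pretriangulated

namespace Groth.L27.ULA

open Groth.L17.GrothSS

variable {C : Type u} [Category.{v} C] [Abelian C] [HasInjectiveResolutions C] [EnoughInjectives C]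
  {D : Type u'} [Category.{v'} D] [Abelian D] (S : C ⥤ D) [S.Additive] [PreservesFiniteLimits S]

/-- `A` has vanishing derived functors in degrees `1, …, n`. -/
def LowAcyclic (n : ℕ) (A : C) : Prop := ∀ q : ℕ, 1 ≤ q → q ≤ n → IsZero ((S.rightDerived q).obj A)

theorem isZero_X₃ [HasDerivedCategory.{w} C] {T : ShortComplex C} (hT : T.ShortExact) (q : ℕ)
    (h₁ : IsZero ((S.rightDerived (q + 1)).obj T.X₁))
    (h₂ : IsZero ((S.rightDerived q).obj T.X₂)) : IsZero ((S.rightDerived q).obj T.X₃) := by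
  obtain ⟨δ, hd⟩ := exists_plusTriangle hT
  refine IsZero.of_iso ?_ (hhSingleZeroIso S T.X₃ q).symm
  exact ((HomotopyCategory.homologyFunctor D (.up ℤ) 0).homologySequence_exact₃ _
    ((RK S).map_distinguished _ hd) (q : ℤ) ((q + 1 : ℕ) : ℤ) (by omega)).isZero_of_both_zeros
    ((h₂.of_iso (hhSingleZeroIso S T.X₂ q)).eq_of_src _ _)
    ((h₁.of_iso (hhSingleZeroIso S T.X₁ (q + 1))).eq_of_tgt _ _)

variable [HasDerivedCategory.{w} C] [HasDerivedCategory.{w'} D]

omit [HasDerivedCategory.{w} C] [HasDerivedCategory.{w'} D] [PreservesFiniteLimits S] in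
theorem isZero_rightDerived_of_isZero {A : C} (h : IsZero A) (q : ℕ) (hq : 1 ≤ q) :
    IsZero ((S.rightDerived q).obj A) :=
  rAcyclic_of_isZero S h q hq

omit [HasDerivedCategory.{w'} D] in
theorem isZero_X₂ {T : ShortComplex C} (hT : T.ShortExact) (q : ℕ)
    (h₁ : IsZero ((S.rightDerived q).obj T.X₁))
    (h₃ : IsZero ((S.rightDerived q).obj T.X₃)) : IsZero ((S.rightDerived q).obj T.X₂) := by
  obtain ⟨δ, hd⟩ := exists_plusTriangle hT
  refine IsZero.of_iso ?_ (hhSingleZeroIso S T.X₂ q).symm
  exact ((HomotopyCategory.homologyFunctor D (.up ℤ) 0).homologySequence_exact₂ _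
    ((RK S).map_distinguished _ hd) (q : ℤ)).isZero_of_both_zeros
    ((h₁.of_iso (hhSingleZeroIso S T.X₁ q)).eq_of_src _ _)
    ((h₃.of_iso (hhSingleZeroIso S T.X₃ q)).eq_of_tgt _ _)

/-- Partially acyclic exact complexes starting in degree `-1` stay exact in degrees `≤ n`. -/
theorem exactAt_map_low (n : ℕ) (K : CochainComplex C ℤ) [K.IsStrictlyGE (-1)]
    (hK : ∀ m, K.ExactAt m) (hA : ∀ m, LowAcyclic S n (K.X m)) (m : ℤ) (hm : m ≤ (n : ℤ)) :
    ((S.mapHomologicalComplex (.up ℤ)).obj K).ExactAt m := by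
  have hT : ∀ i : ℤ, (ShortComplex.mk (K.iCycles i) (K.toCycles i (i + 1))
      (by rw [← cancel_mono (K.iCycles (i + 1))]; simp)).ShortExact := fun i => by
    have h : Epi (K.toCycles i (i + 1)) := by
      have hz : K.homologyπ (i + 1) = 0 :=
        ((K.exactAt_iff_isZero_homology (i + 1)).1 (hK (i + 1))).eq_of_tgt _ _
      exact (ShortComplex.exact_of_g_is_cokernel (ShortComplex.mk _ _
        (K.toCycles_comp_homologyπ i (i + 1)))
        (K.homologyIsCokernel i (i + 1) (by simp))).epi_f hz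
    refine { exact := ?_, mono_f := inferInstance, epi_g := h }
    rw [ShortComplex.exact_iff_exact_up_to_refinements]
    intro P x hx
    change x ≫ K.toCycles i (i + 1) = 0 at hx
    refine ⟨P, 𝟙 P, inferInstance, K.liftCycles x (i + 1) (by simp) ?_, ?_⟩
    · rw [← K.toCycles_i i (i + 1), ← Category.assoc]
      exact (congrArg (fun e => e ≫ K.iCycles (i + 1)) hx).trans zero_comp
    · simp
  have hlow : ∀ i : ℤ, i ≤ -1 → IsZero (K.cycles i) := fun i hi => by
    rcases lt_or_eq_of_le hi with h | h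
    · exact IsZero.of_mono (K.iCycles i) (K.isZero_of_isStrictlyGE (-1) i h)
    · haveI : Epi (K.toCycles (i - 1) i) := by
        have := (hT (i - 1)).epi_g
        rwa [show i - 1 + 1 = i by omega] at this
      exact IsZero.of_epi (K.toCycles (i - 1) i) (K.isZero_of_isStrictlyGE (-1) (i - 1) (by omega))
  have hz : ∀ (j : ℕ) (k : ℕ), 1 ≤ k → k + j ≤ n + 1 → IsZero ((S.rightDerived k).obj (K.cycles ((j : ℤ) - 1))) := by
    intro j
    induction j with
    | zero => exact fun k hk _ => isZero_rightDerived_of_isZero S (hlow _ (by simp)) k hk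
    | succ j ih =>
      intro k hk hkj
      have := isZero_X₃ S (hT ((j : ℤ) - 1)) k (ih (k + 1) (by omega) (by omega)) (hA _ k hk (by omega))
      rwa [show (((j + 1 : ℕ) : ℤ) - 1) = (j : ℤ) - 1 + 1 by omega]
  obtain ⟨i, rfl⟩ : ∃ i, m = i + 1 := ⟨m - 1, by omega⟩
  have h1 : IsZero ((S.rightDerived 1).obj (K.cycles i)) := by
    rcases le_or_gt i (-1) with h | h
    · exact isZero_rightDerived_of_isZero S (hlow i h) 1 le_rfl
    · have := hz (i + 1).toNat 1 le_rfl (by omega)
      rwa [show ((i + 1).toNat : ℤ) - 1 = i by omega] at this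
  rw [HomologicalComplex.exactAt_iff' _ i (i + 1) (i + 1 + 1) (by simp) (by simp),
    ShortComplex.exact_iff_exact_up_to_refinements]
  intro P x hx
  change x ≫ S.map (K.d (i + 1) (i + 1 + 1)) = 0 at hx
  have hk : IsLimit (KernelFork.ofι (S.map (K.iCycles (i + 1)))
      (f := S.map (K.d (i + 1) (i + 1 + 1))) (by rw [← S.map_comp, K.iCycles_d, S.map_zero])) :=
    KernelFork.mapIsLimit _ (K.cyclesIsKernel (i + 1) (i + 1 + 1) (by simp)) S
  obtain ⟨y, hy⟩ := KernelFork.IsLimit.lift' hk x hx
  change y ≫ S.map (K.iCycles (i + 1)) = x at hy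
  have := epi_map_g S (hT i) h1
  obtain ⟨P', π, hπ, z, hz'⟩ := surjective_up_to_refinements_of_epi
    (S.map (K.toCycles i (i + 1))) y
  refine ⟨P', π, hπ, z, ?_⟩
  change π ≫ x = z ≫ S.map (K.d i (i + 1))
  exact ((congrArg (π ≫ ·) hy.symm).trans
    ((Category.assoc _ _ _).symm.trans (congrArg (· ≫ S.map (K.iCycles (i + 1))) hz'))).trans
    ((Category.assoc _ _ _).trans (congrArg (z ≫ ·) (by rw [← S.map_comp, K.toCycles_i])))

/-- A quasi-isomorphism from a partially acyclic complex to a complex of injectives induces isomorphisms in low degrees. -/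
theorem homologyMap_low (n : ℕ) {K L : CochainComplex C ℤ} (f : K ⟶ L) [QuasiIso f]
    [K.IsStrictlyGE 0] [L.IsStrictlyGE 0] (hA : ∀ m, LowAcyclic S n (K.X m))
    (hB : ∀ m, LowAcyclic S n (L.X m)) :
    (∀ m : ℤ, m ≤ (n : ℤ) → IsIso (HomologicalComplex.homologyMap ((S.mapHomologicalComplex (.up ℤ)).map f) m)) ∧
      Mono (HomologicalComplex.homologyMap ((S.mapHomologicalComplex (.up ℤ)).map f) ((n : ℤ) + 1)) := by
  haveI : (CochainComplex.mappingCone f).IsStrictlyGE (-1) :=
    CochainComplex.isStrictlyGE_mappingCone f 0 0 _ (by omega) (by omega)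
  have hK : ∀ m, (CochainComplex.mappingCone f).ExactAt m := (quasiIso_iff_cone f).1 inferInstance
  have hC : ∀ m, LowAcyclic S n ((CochainComplex.mappingCone f).X m) := fun m q h1 h2 => by
    refine IsZero.of_iso ?_ ((S.rightDerived q).mapIso (HomologicalComplex.homotopyCofiber.XIsoBiprod f m (m + 1) rfl))
    exact isZero_X₂ S (ShortComplex.Splitting.ofHasBinaryBiproduct (K.X (m + 1)) (L.X m)).shortExact q
      (hA (m + 1) q h1 h2) (hB m q h1 h2)
  let g := (S.mapHomologicalComplex (.up ℤ)).map f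
  have hz : ∀ m : ℤ, m ≤ (n : ℤ) → IsZero ((CochainComplex.mappingCone g).homology m) := fun m hm =>
    ((CochainComplex.mappingCone g).exactAt_iff_isZero_homology m).1
      ((exactAt_map_low S n _ hK hC m hm).of_iso (CochainComplex.mappingCone.mapHomologicalComplexIso f S))
  have hT : DerivedCategory.Q.mapTriangle.obj (CochainComplex.mappingCone.triangle g) ∈ distTriang _ :=
    DerivedCategory.mappingCone_triangle_distinguished g
  have hmono : ∀ m : ℤ, m ≤ (n : ℤ) + 1 → Mono (HomologicalComplex.homologyMap g m) := fun m hm =>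
    (CochainComplex.homologyMap_exact₁_of_distTriang _ hT (m - 1) m (by omega)).mono_g
      ((hz (m - 1) (by omega)).eq_of_src _ _)
  refine ⟨fun m hm => ?_, hmono _ le_rfl⟩
  haveI : Mono (HomologicalComplex.homologyMap g m) := hmono m (by omega)
  haveI : Epi (HomologicalComplex.homologyMap g m) :=
    (CochainComplex.homologyMap_exact₂_of_distTriang _ hT m).epi_f ((hz m hm).eq_of_tgt _ _)
  exact isIso_of_mono_of_epi (HomologicalComplex.homologyMap g m)

end Groth.L27.ULA
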