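import Groth.Agent.L27.ULA.TorResL
import Groth.Agent.L27.ULA.LowHom
import Groth.Agent.L27.PBC.BcMap
import Groth.Agent.L27.CompTransfer.Transfer

/-! # The derived base change morphism in low degrees, from vanishing in degree `≤ n` -/

universe u

open CategoryTheory CategoryTheory.Limits AlgebraicGeometry

attribute [local instance] HasDerivedCategory.standard

set_option autoImplicit false
set_option backward.isDefEq.respectTransparency false
set_option backward.isDefEq.respectTransparency.types false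
set_option backward.defeqAttrib.useBackward true
set_option linter.style.haveILetI false
set_option linter.unusedSectionVars false
set_option synthInstance.maxHeartbeats 100000

noncomputable section

namespace Groth.L27.ULA

open Groth.L10.EtBCComp.DComp Groth.L10.EtLocalBC DerivedCategory

variable {X S X' S' : Scheme.{u}} (f : X ⟶ S) (g : S' ⟶ S) (f' : X' ⟶ S') (g' : X' ⟶ X)
  [DCoh.HasRpushEt X f] [DCoh.HasRpushEt X' f'] [DCoh.HasRpushEt S' g]
  [PreservesFiniteLimits (EtCoh.pull g)] [PreservesFiniteLimits (EtCoh.pull g')]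

theorem prop_homology_Qh {Z : Scheme.{u}} (P : MorphismProperty (EtCoh.Ab Z)) [P.RespectsIso]
    {K L : CochainComplex (EtCoh.Ab Z) ℤ} (φ : K ⟶ L) (q : ℤ) (h : P (HomologicalComplex.homologyMap φ q)) :
    P ((DerivedCategory.homologyFunctor (EtCoh.Ab Z) q).map (Qh.map ((HomotopyCategory.quotient _ _).map φ))) := by
  let η : ((HomotopyCategory.quotient (EtCoh.Ab Z) (ComplexShape.up ℤ)) ⋙ Qh) ⋙
      DerivedCategory.homologyFunctor (EtCoh.Ab Z) q ≅ HomologicalComplex.homologyFunctor _ _ q :=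
    Functor.isoWhiskerRight (quotientCompQhIso (EtCoh.Ab Z)) _ ≪≫ homologyFunctorFactors (EtCoh.Ab Z) q
  exact (P.arrow_mk_iso_iff (Arrow.isoMk (η.app K) (η.app L) (η.hom.naturality φ).symm)).2 h

/-- The base change morphism of a complex of `f`-acyclic sheaves, up to isomorphism, is the unit of `Rf'_*`. -/
theorem exists_iso_comp_unit (h : IsPullback g' f' f g) (adj : EtBC.pullD g ⊣ DCoh.RpushEt S' g)
    (C : CochainComplex (EtCoh.Ab X) ℤ) (a : ℤ) [C.IsStrictlyGE a]
    (hac : ∀ n, Groth.L17.GrothSS.RAcyclic (EtCoh.push f) (C.X n))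
    (hbc : ∀ n, IsIso (EtCoh.baseChange0 f g f' g' h.w (C.X n))) :
    ∃ (u : (EtBC.pullD g).obj ((DCoh.RpushEt X f).obj (Qh.obj ((HomotopyCategory.quotient _ _).obj C))) ⟶
        Qh.obj ((H f').obj ((P g').obj ((HomotopyCategory.quotient _ _).obj C)))), IsIso u ∧
      EtBC.bcMap f g f' g' h.w adj (Qh.obj ((HomotopyCategory.quotient _ _).obj C)) =
        u ≫ (U f').app ((P g').obj _) ≫
          (DCoh.RpushEt X' f').map ((EtCoh.pull g').mapDerivedCategoryFactorsh.inv.app _) := by
  let A : HomotopyCategory (EtCoh.Ab X) (ComplexShape.up ℤ) := (HomotopyCategory.quotient _ _).obj C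
  haveI hUf : IsIso ((U f).app A) := PBC.isIso_unit_bddBelow f C a hac
  let e : Qh.obj ((H f').obj ((P g').obj A)) ⟶ (DCoh.RpushEt X' f').obj ((EtBC.pullD g').obj (Qh.obj A)) :=
    (U f').app ((P g').obj A) ≫ (DCoh.RpushEt X' f').map ((EtCoh.pull g').mapDerivedCategoryFactorsh.inv.app A)
  let Rg := DCoh.RpushEt S' g
  let v : (DCoh.RpushEt X f).obj (Qh.obj A) ⟶ Rg.obj (Qh.obj ((H f').obj ((P g').obj A))) :=
    inv ((U f).app A) ≫ Qh.map ((EtBC.pushToPushPullH f g f' g' h.w).app A) ≫ (U g).app _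
  have hv : (EtBC.bcAdj f g f' g' h.w).app (Qh.obj A) = v ≫ Rg.map e := by
    rw [← cancel_epi ((U f).app A)]
    simp only [v, Category.assoc, IsIso.hom_inv_id_assoc]
    rw [U_fac f g f' g' h.w A, bcUnit_app]
    simp only [e, Functor.map_comp]
    rfl
  refine ⟨(adj.homEquiv _ _).symm v, ?_, ?_⟩
  · rw [isIso_iff_coyoneda_map_bijective]
    intro M
    obtain ⟨D, hD, ⟨eM⟩⟩ : ∃ D : CochainComplex (EtCoh.Ab S') ℤ, D.IsKInjective ∧
        Nonempty (Qh.obj ((HomotopyCategory.quotient _ _).obj D) ≅ M) :=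
      ⟨_, (((L10.KInjDerived.kInj (EtCoh.Ab S')).ι ⋙ Qh).objPreimage M).property,
        ⟨((L10.KInjDerived.kInj (EtCoh.Ab S')).ι ⋙ Qh).objObjPreimageIso M⟩⟩
    let B : HomotopyCategory (EtCoh.Ab S') (ComplexShape.up ℤ) := (HomotopyCategory.quotient _ _).obj D
    haveI hUg := L10.KInjDerived.isIso_app_of_isKInjective (U g) B hD
    haveI : CochainComplex.IsKInjective (((EtCoh.push g).mapHomologicalComplex _).obj D) :=
      L10.KInjTransfer.isKInjective_map (EtCoh.pullPushAdj g) D
    let Γ : ((H f').obj ((P g').obj A) ⟶ B) → ((H f).obj A ⟶ (H g).obj B) := fun ψ =>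
      (EtBC.pushToPushPullH f g f' g' h.w).app A ≫ (H g).map ψ
    have hΓ : Function.Bijective Γ := by
      haveI := PBC.isIso_bcC' f g f' g' h.w C hbc
      have hc : unitC (EtCoh.pullPushAdj g) (((EtCoh.push f).mapHomologicalComplex _).obj C) ≫
          ((EtCoh.push g).mapHomologicalComplex _).map (bcC f g f' g' h.w C) =
          (NatTrans.mapHomologicalComplex (EtBC.pushToPushPull f g f' g' h.w) _).app C :=
        HomologicalComplex.hom_ext _ _ fun n => ((EtCoh.pullPushAdj g).homEquiv_unit _ _ _).symm.trans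
          (Equiv.apply_symm_apply _ _)
      have e' : Γ = (fun x => (HomotopyCategory.quotient _ _).map
            (unitC (EtCoh.pullPushAdj g) (((EtCoh.push f).mapHomologicalComplex _).obj C)) ≫ (H g).map x) ∘
          (fun ψ => (HomotopyCategory.quotient _ _).map (bcC f g f' g' h.w C) ≫ ψ) := by
        funext ψ
        refine (congrArg (· ≫ (H g).map ψ) ((pushToPushPullH_app f g f' g' h.w C).trans ?_)).trans
          ((Category.assoc _ _ _).trans (congrArg (_ ≫ ·) ((H g).map_comp _ _).symm))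
        exact (congrArg _ hc.symm).trans ((HomotopyCategory.quotient _ _).map_comp _ _)
      rw [e']
      exact (bijective_homotopy_transpose _ _ _).comp
        (Iso.homFromEquiv (asIso ((HomotopyCategory.quotient _ _).map (bcC f g f' g' h.w C))).symm).bijective
    have hQ : Function.Bijective (fun ψ : (H f').obj ((P g').obj A) ⟶ B => Qh.map ψ ≫ eM.hom) :=
      (Iso.homToEquiv eM).bijective.comp (L10.KInjDerived.qh_bijective _ ⟨B, hD⟩)
    let Φ : ((H f).obj A ⟶ (H g).obj B) → ((DCoh.RpushEt X f).obj (Qh.obj A) ⟶ Rg.obj M) := fun m =>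
      inv ((U f).app A) ≫ Qh.map m ≫ (U g).app B ≫ Rg.map eM.hom
    have hΦ : Function.Bijective Φ :=
      (Iso.homFromEquiv (asIso ((U f).app A))).bijective.comp ((Iso.homToEquiv (asIso ((U g).app B ≫ Rg.map eM.hom))).bijective.comp
        (L10.KInjDerived.qh_bijective _ ⟨(H g).obj B, ‹_›⟩))
    have key : ∀ ψ, v ≫ Rg.map (Qh.map ψ ≫ eM.hom) = Φ (Γ ψ) := by
      intro ψ
      simp only [Φ, Γ, v, Functor.map_comp, Category.assoc]
      refine congrArg (inv _ ≫ ·) (congrArg (Qh.map _ ≫ ·) ?_)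
      exact ((U g).naturality_assoc ψ (Rg.map eM.hom)).symm
    have hb : Function.Bijective (fun φ : Qh.obj ((H f').obj ((P g').obj A)) ⟶ M => v ≫ Rg.map φ) := by
      refine (Function.Bijective.of_comp_iff _ hQ).1 ?_
      rw [show (fun φ : Qh.obj ((H f').obj ((P g').obj A)) ⟶ M => v ≫ Rg.map φ) ∘
          (fun ψ : (H f').obj ((P g').obj A) ⟶ B => Qh.map ψ ≫ eM.hom) = Φ ∘ Γ from funext key]
      exact hΦ.comp hΓ
    have heq : (fun φ => (adj.homEquiv _ _).symm v ≫ φ) = (adj.homEquiv _ M).symm ∘ (fun φ => v ≫ Rg.map φ) :=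
      funext fun φ => (adj.homEquiv_naturality_right_symm _ φ).symm
    show Function.Bijective (fun φ => (adj.homEquiv _ _).symm v ≫ φ)
    rw [heq]
    exact (Equiv.bijective _).comp hb
  · show (adj.homEquiv _ _).symm ((EtBC.bcAdj f g f' g' h.w).app (Qh.obj A)) = (adj.homEquiv _ _).symm v ≫ e
    rw [hv, Adjunction.homEquiv_naturality_right_symm]

theorem isLTorsion_of_iso {L : Set ℕ} {Z : Scheme.{u}} {F G : EtCoh.Ab Z} (e : F ≅ G) (h : EtAcyc.IsLTorsion L F) :
    EtAcyc.IsLTorsion L G := CompTransfer.isLTorsion_of_epi e.hom h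

theorem isLTorsion_of_isZero (L : Set ℕ) {Z : Scheme.{u}} {F : EtCoh.Ab Z} (h : IsZero F) :
    EtAcyc.IsLTorsion L F := fun U s x => by
  refine ⟨U, 𝟙 U, 1, ⟨x, rfl⟩, ⟨Nat.one_pos, fun p hp h1 => absurd (Nat.dvd_one.1 h1) hp.ne_one⟩, ?_⟩
  haveI : Subsingleton (F.obj.obj (Opposite.op U) : Type (u + 1)) :=
    AddCommGrpCat.subsingleton_of_isZero ((sheafToPresheaf _ _ ⋙ (evaluation _ _).obj (Opposite.op U)).map_isZero h)
  exact Subsingleton.elim _ _

variable [QuasiCompact f] [QuasiSeparated f] (L : Set ℕ) (n : ℕ)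

/-- If the base change maps of `L`-torsion sheaves are bijective in degrees `≤ n`, the derived base change morphism
is bijective on cohomology sheaves in degrees `≤ n` and injective in degree `n + 1`. -/
theorem homology_bcMap_low (h : IsPullback g' f' f g) (adj : EtBC.pullD g ⊣ DCoh.RpushEt S' g)
    (hbc : ∀ G : EtCoh.Ab X, EtAcyc.IsLTorsion L G → ∀ k : ℕ, k ≤ n → IsIso (EtBC.bcQ f g f' g' h.w k G))
    (F : EtCoh.Ab X) (hF : EtAcyc.IsLTorsion L F) :
    (∀ q : ℤ, q ≤ (n : ℤ) → IsIso ((DerivedCategory.homologyFunctor (EtCoh.Ab S') q).map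
      (EtBC.bcMap f g f' g' h.w adj (EtBC.single X F)))) ∧
    Mono ((DerivedCategory.homologyFunctor (EtCoh.Ab S') ((n : ℤ) + 1)).map
      (EtBC.bcMap f g f' g' h.w adj (EtBC.single X F))) := by
  let F₀ : CochainComplex (EtCoh.Ab X) ℤ := (HomologicalComplex.single (EtCoh.Ab X) (ComplexShape.up ℤ) 0).obj F
  obtain ⟨I, i, hi, hI, hge⟩ := CochainComplex.Plus.modelCategoryQuillen.exists_quasiIso_injective F₀ 0
  haveI : ∀ m, Injective (I.X m) := hI
  have hH : ∀ m, EtAcyc.IsLTorsion L (I.homology m) := fun m => by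
    haveI : IsIso (HomologicalComplex.homologyMap i m) :=
      (quasiIsoAt_iff_isIso_homologyMap i m).1 (hi.quasiIsoAt m)
    refine isLTorsion_of_iso (asIso (HomologicalComplex.homologyMap i m)) ?_
    by_cases hm : m = 0
    · subst hm
      exact isLTorsion_of_iso (HomologicalComplex.singleObjHomologySelfIso (ComplexShape.up ℤ) 0 F).symm hF
    · exact isLTorsion_of_isZero L (HomologicalComplex.isZero_single_obj_homology _ _ _ _ hm)
  haveI := quasiIso_torCι L I hH
  let C := torC L I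
  haveI : C.IsStrictlyGE 0 := (CochainComplex.isStrictlyGE_iff _ _).2 fun m hm =>
    (torFun L).map_isZero (CochainComplex.isZero_of_isStrictlyGE I 0 m hm)
  let eT : Qh.obj ((HomotopyCategory.quotient _ _).obj C) ≅ EtBC.single X F :=
    (quotientCompQhIso (EtCoh.Ab X)).app C ≪≫ asIso (DerivedCategory.Q.map (torCι L I)) ≪≫
      (asIso (DerivedCategory.Q.map i)).symm ≪≫ ((DerivedCategory.singleFunctorIsoCompQ (EtCoh.Ab X) 0).app F).symm
  have hac : ∀ m, Groth.L17.GrothSS.RAcyclic (EtCoh.push f) (C.X m) := fun m q hq =>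
    CompTransfer.isZero_Rpush_of_acyc f _ (CompTransfer.acyc_tor L (I.X m)) q hq
  have hbc0 : ∀ m, IsIso (EtCoh.baseChange0 f g f' g' h.w (C.X m)) := fun m => by
    haveI := hbc (C.X m) (CompTransfer.isLTorsion_tor L (I.X m)) 0 (Nat.zero_le n)
    exact CompTransfer.isIso_baseChange0_of_bcQ g f g' f' h.w (C.X m)
  let C' := ((EtCoh.pull g').mapHomologicalComplex (ComplexShape.up ℤ)).obj C
  haveI : CochainComplex.IsStrictlyGE C' 0 := (CochainComplex.isStrictlyGE_iff _ _).2 fun m hm =>
    (EtCoh.pull g').map_isZero (CochainComplex.isZero_of_isStrictlyGE C 0 m hm)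
  have hlow : ∀ m, LowAcyclic (EtCoh.push f') n (C'.X m) := fun m q h1 h2 => by
    haveI := hbc (C.X m) (CompTransfer.isLTorsion_tor L (I.X m)) q h2
    exact IsZero.of_iso ((EtCoh.pull g).map_isZero (hac m q h1))
      (asIso (EtBC.bcQ f g f' g' h.w q (C.X m))).symm
  obtain ⟨J, j, hj, hJ, hgeJ⟩ := CochainComplex.Plus.modelCategoryQuillen.exists_quasiIso_injective C' 0
  haveI : ∀ m, Injective (J.X m) := hJ
  haveI := CochainComplex.isKInjective_of_injective J 0
  haveI := L10.KInjDerived.isIso_app_quotient (RF := DCoh.RpushEt X' f') (U f') J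
  haveI : (EtCoh.push f').IsRightAdjoint := (EtCoh.pullPushAdj f').isRightAdjoint
  haveI : PreservesFiniteLimits (EtCoh.push f') := inferInstance
  obtain ⟨hiso, hmono⟩ := homologyMap_low (EtCoh.push f') n j hlow fun m q h1 _ => by
    obtain ⟨k, rfl⟩ : ∃ k, q = k + 1 := ⟨q - 1, by omega⟩
    exact (EtCoh.push f').isZero_rightDerived_obj_injective_succ k _
  obtain ⟨u, hu, hu'⟩ := exists_iso_comp_unit f g f' g' h adj C 0 hac hbc0
  let w := (HomotopyCategory.quotient (EtCoh.Ab X') (ComplexShape.up ℤ)).map j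
  haveI : IsIso (Qh.map w) := Localization.inverts DerivedCategory.Qh (HomotopyCategory.quasiIso _ (ComplexShape.up ℤ)) w
    ((HomotopyCategory.quotient_map_mem_quasiIso_iff _).2 ((HomologicalComplex.mem_quasiIso_iff _).2 inferInstance))
  have hU : (U f').app ((P g').obj ((HomotopyCategory.quotient _ _).obj C)) =
      Qh.map ((H f').map w) ≫ (U f').app _ ≫ inv ((DCoh.RpushEt X' f').map (Qh.map w)) := by
    rw [← Category.assoc, IsIso.eq_comp_inv]
    exact ((U f').naturality w).symm
  have main : ∀ (Pr : MorphismProperty (EtCoh.Ab S')) [Pr.RespectsIso] (q : ℤ),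
      Pr (HomologicalComplex.homologyMap (((EtCoh.push f').mapHomologicalComplex (ComplexShape.up ℤ)).map j) q) →
      Pr ((DerivedCategory.homologyFunctor (EtCoh.Ab S') q).map
        (EtBC.bcMap f g f' g' h.w adj (EtBC.single X F))) := fun Pr _ q hq => by
    let E : Arrow.mk (EtBC.bcMap f g f' g' h.w adj (Qh.obj ((HomotopyCategory.quotient _ _).obj C))) ≅
        Arrow.mk (EtBC.bcMap f g f' g' h.w adj (EtBC.single X F)) :=
      Arrow.isoMk ((EtBC.pullD g).mapIso ((DCoh.RpushEt X f).mapIso eT))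
        ((DCoh.RpushEt X' f').mapIso ((EtBC.pullD g').mapIso eT)) (bcMap_natural f g f' g' h.w adj eT.hom)
    refine (Pr.arrow_mk_iso_iff ((DerivedCategory.homologyFunctor (EtCoh.Ab S') q).mapArrow.mapIso E)).1 ?_
    show Pr ((DerivedCategory.homologyFunctor (EtCoh.Ab S') q).map
      (EtBC.bcMap f g f' g' h.w adj (Qh.obj ((HomotopyCategory.quotient _ _).obj C))))
    rw [hu', hU, Functor.map_comp, Functor.map_comp, Functor.map_comp, Pr.cancel_left_of_respectsIso,
      Pr.cancel_right_of_respectsIso, Pr.cancel_right_of_respectsIso]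
    exact prop_homology_Qh Pr _ q hq
  exact ⟨fun q hq => main (MorphismProperty.isomorphisms _) q (hiso q hq),
    main (MorphismProperty.monomorphisms _) _ hmono⟩

end Groth.L27.ULA
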