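import Groth.Agent.L27.ULA.Fibre
import Groth.Agent.L27.ULA.Base
import Groth.Agent.L27.ULA.BcMapLow
import Groth.Agent.L27.XV.Global
import Groth.Agent.L27.XV.Vanish
import Groth.Agent.L27.XV.Proper

/-! # Universally locally acyclic morphisms satisfy base change (SGA 4 XV 1.16, XVI 1.1) -/

universe u

open CategoryTheory CategoryTheory.Limits AlgebraicGeometry Opposite IsLocalRing

attribute [local instance] HasDerivedCategory.standard

set_option autoImplicit false
set_option backward.isDefEq.respectTransparency.types false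
set_option linter.style.haveILetI false
set_option linter.unusedSectionVars false

noncomputable section

namespace Groth.L27.ULA

variable {R : Type u} [CommRing R] {S' : Scheme.{u}} [IsAffine S'] (h : S' ⟶ Spec (CommRingCat.of R))
  {L : Set ℕ} {n : ℕ}

/-- An acyclic, universally locally acyclic morphism between strictly local schemes is acyclic after every
quasi-compact quasi-separated base change. -/
theorem isAcyclicN_baseChange (hu : EtAcyc.IsULocAcyclicN h L n) (ha : EtAcyc.IsAcyclicN h L n)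
    (hL : ∃ l ∈ L, l.Prime) {P Q : Scheme.{u}} (p : P ⟶ Spec (CommRingCat.of R)) (hP : Q ⟶ P) (q : Q ⟶ S')
    (sq : IsPullback q hP h p) : EtAcyc.IsAcyclicN hP L n := by
  haveI : IsAffineHom h := isAffineHom_of_isAffine h
  haveI : IsAffineHom hP := MorphismProperty.of_isPullback (P := @IsAffineHom) sq inferInstance
  have hloc : EtAcyc.IsLocAcyclicN hP L n := hu hP q p sq
  have hfib : EtAcyc.GeomFibresAcyclicN L n hP := by
    intro y Ω _ _ algΩ _
    let t := EtAcyc.geomPt P y Ω ≫ p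
    obtain ⟨φ, hφ⟩ := Spec.map_surjective t
    letI : Algebra R Ω := φ.hom.toAlgebra
    have c : IsPullback (pullback.fst hP (EtAcyc.geomPt P y Ω) ≫ q) (pullback.snd hP (EtAcyc.geomPt P y Ω)) h
        (Spec.map (CommRingCat.ofHom (algebraMap R Ω))) := by
      rw [show Spec.map (CommRingCat.ofHom (algebraMap R Ω)) = t from hφ]
      exact (IsPullback.of_hasPullback hP (EtAcyc.geomPt P y Ω)).paste_horiz sq
    exact XV.isAcyclicScheme_of_iso c.isoPullback.hom (isAcyclicScheme_fibre h hu ha Ω hL)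
  cases n with
  | zero => exact XV.isAcyclicN_zero_of_fibres hP L (XV.surjStrict_of_loc _ L hL 0 hloc) hfib
  | succ m => exact XV.isAcyclicN_of_fibres hP L hL m (XV.isLocAcyclicN_mono (Nat.le_succ m) hloc) hfib

/-- Base change in degrees `≤ n`. -/
theorem isIso_bcQ_of_uLoc {X Y X' Y' : Scheme.{u}} (f : X ⟶ Y) (g : Y' ⟶ Y) (f' : X' ⟶ Y') (g' : X' ⟶ X)
    (sq : IsPullback g' f' f g) [QuasiCompact f] [QuasiSeparated f] [PreservesFiniteLimits (EtCoh.pull g')]
    (hg : EtAcyc.IsULocAcyclicN g L n) (G : EtCoh.Ab X) (hG : EtAcyc.IsLTorsion L G) (k : ℕ) (hk : k ≤ n) :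
    IsIso (EtBC.bcQ f g f' g' sq.w k G) := by
  by_cases hL : ∃ l ∈ L, l.Prime
  · refine isIso_bcQ_le g f f' g' sq L n ?_ G hG k hk
    intro x RS _ _ _ _ _ RX _ _ _ _ _ ψ _ hψ PS PX aS bS cS bX m cm
    obtain ⟨h1, h2⟩ := isULocAcyclicN_strict g hg x RS RX ψ hψ
    exact compN_self (isAcyclicN_baseChange (Spec.map (CommRingCat.ofHom ψ)) h1 h2 hL bS m bX cm)
  · push Not at hL
    have hz := XV.isZero_of_no_prime hL hG
    have h0 : ∀ {A B : EtCoh.Ab Y'} (a : A ⟶ B), IsZero A → IsZero B → IsIso a := fun a hA hB =>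
      ⟨0, hA.eq_of_src _ _, hB.eq_of_src _ _⟩
    haveI : (EtCoh.Rpush f k).PreservesZeroMorphisms := inferInstance
    exact h0 _ ((EtCoh.pull g).map_isZero ((EtCoh.Rpush f k).map_isZero hz))
      ((EtCoh.Rpush f' k).map_isZero ((EtCoh.pull g').map_isZero hz))

/-- The derived base change morphism along a universally locally acyclic morphism. -/
theorem homology_bcMap_uLoc {X Y X' Y' : Scheme.{u}} (f : X ⟶ Y) (g : Y' ⟶ Y) (f' : X' ⟶ Y') (g' : X' ⟶ X)
    (sq : IsPullback g' f' f g) [QuasiCompact f] [QuasiSeparated f]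
    [PreservesFiniteLimits (EtCoh.pull g)] [PreservesFiniteLimits (EtCoh.pull g')]
    [DCoh.HasRpushEt X f] [DCoh.HasRpushEt X' f'] [DCoh.HasRpushEt Y' g]
    (hg : EtAcyc.IsULocAcyclicN g L n) (adj : EtBC.pullD g ⊣ DCoh.RpushEt Y' g)
    (F : EtCoh.Ab X) (hF : EtAcyc.IsLTorsion L F) :
    (∀ q : ℤ, q ≤ (n : ℤ) → IsIso ((DerivedCategory.homologyFunctor (EtCoh.Ab Y') q).map
      (EtBC.bcMap f g f' g' sq.w adj (EtBC.single X F)))) ∧
    Mono ((DerivedCategory.homologyFunctor (EtCoh.Ab Y') ((n : ℤ) + 1)).map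
      (EtBC.bcMap f g f' g' sq.w adj (EtBC.single X F))) :=
  homology_bcMap_low f g f' g' L n sq adj (fun G hG k hk => isIso_bcQ_of_uLoc f g f' g' sq hg G hG k hk) F hF

end Groth.L27.ULA
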