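import Groth.Agent.S6667
import Groth.Agent.L27.StalkBC.BCStep
import Groth.Agent.L27.CompTransfer.Torsion
import Groth.Agent.L28.AcyComp.Basic
import Groth.Agent.L27.XV.Transfer

/-! # Base change in degrees `≤ n + 1` from comparison over the strict localizations -/

universe u

open CategoryTheory CategoryTheory.Limits AlgebraicGeometry Opposite IsLocalRing

set_option autoImplicit false
set_option backward.isDefEq.respectTransparency.types false
set_option linter.style.haveILetI false
set_option linter.unusedSectionVars false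

noncomputable section

namespace Groth.L27.ULA

/-- The comparison condition passes to any presentation of the base change to an etale scheme. -/
theorem compN_of_isAcyclicN {X Y : Scheme.{u}} {g : X ⟶ Y} {L : Set ℕ} {n : ℕ} (hg : EtAcyc.IsAcyclicN g L n)
    (V : Y.Etale) {Z : Scheme.{u}} {a : Z ⟶ X} {g' : Z ⟶ V.left} (sq : IsPullback a g' g V.hom) :
    EtAcyc.CompN g' L n :=
  (L28.AcyComp.compN_comp_iff sq.flip.isoPullback.hom (EtAcyc.prj g V) sq.flip.isoPullback_hom_fst
    (L28.AcyComp.compN_of_isIso _ L n)).1 (hg V)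

/-- The comparison condition at the whole base. -/
theorem compN_self {X Y : Scheme.{u}} {g : X ⟶ Y} {L : Set ℕ} {n : ℕ} (hg : EtAcyc.IsAcyclicN g L n) :
    EtAcyc.CompN g L n :=
  compN_of_isAcyclicN hg (EtCoh.top Y) (a := 𝟙 X) (g' := g) (by
    haveI : IsIso (EtCoh.top Y).hom := inferInstanceAs (IsIso (𝟙 Y))
    exact IsPullback.of_horiz_isIso ⟨(Category.id_comp g).trans (Category.comp_id g).symm⟩)

theorem bijective_HpullVia {PX PS T : Scheme.{u}} (m : PX ⟶ PS) (aS : PS ⟶ T) (aX : PX ⟶ T) (w : m ≫ aS = aX)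
    [PreservesFiniteLimits (EtCoh.pull m)] (F : EtCoh.Ab T) (q : ℕ)
    (hb : Function.Bijective (EtCore.Hpull m ((EtCoh.pull aS).obj F) q)) :
    Function.Bijective (EtCore.HpullVia m aS aX w F q) :=
  (ConcreteCategory.bijective_of_isIso
    ((EtCoh.HF PX q).map (((EtCore.pullComp m aS).symm ≪≫ EtCore.pullCongr w).app F).hom)).comp hb

variable {X S Y T : Scheme.{u}} (f : X ⟶ S) (g : T ⟶ S) [QuasiCompact g] [QuasiSeparated g]
  (h : Y ⟶ X) (e : Y ⟶ T) (c : IsPullback e h g f) [PreservesFiniteLimits (EtCoh.pull e)]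
  (L : Set ℕ) (n : ℕ)
  (H : ∀ (x : X) (RS : Type u) [CommRing RS] [IsLocalRing RS] [Algebra (S.presheaf.stalk (f.base x)) RS]
      [IsLocalHom (algebraMap (S.presheaf.stalk (f.base x)) RS)] [Hensel.IsStrictHenselization (S.presheaf.stalk (f.base x)) RS]
      (RX : Type u) [CommRing RX] [IsLocalRing RX] [Algebra (X.presheaf.stalk x) RX]
      [IsLocalHom (algebraMap (X.presheaf.stalk x) RX)] [Hensel.IsStrictHenselization (X.presheaf.stalk x) RX]
      (ψ : RS →+* RX) [IsLocalHom ψ],
      ψ.comp (algebraMap (S.presheaf.stalk (f.base x)) RS) = (algebraMap (X.presheaf.stalk x) RX).comp (f.stalkMap x).hom →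
      ∀ (PS PX : Scheme.{u}) (aS : PS ⟶ T) (bS : PS ⟶ Spec (CommRingCat.of RS))
        (_ : IsPullback aS bS g (Hens2.specOf S (f.base x) RS))
        (bX : PX ⟶ Spec (CommRingCat.of RX)) (m : PX ⟶ PS)
        (_ : IsPullback bX m (Spec.map (CommRingCat.ofHom ψ)) bS), EtAcyc.CompN m L n)

include H in
theorem isIso_bcQ_le (G : EtCoh.Ab T) (hG : EtAcyc.IsLTorsion L G) (k : ℕ) (hk : k ≤ n) :
    IsIso (EtBC.bcQ g f h e c.w k G) :=
  (Groth.Agent.S6667.result f g h e c G k).1 fun x RS _ _ _ _ _ RX _ _ _ _ _ ψ _ hψ PS PX aS bS cS aX bX cX m w hm _ => by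
    have cm : IsPullback bX m (Spec.map (CommRingCat.ofHom ψ)) bS := by
      refine (IsPullback.of_right (h₁₁ := m) (h₁₂ := aS) (h₂₂ := Hens2.specOf S (f.base x) RS) ?_ hm cS).flip
      rw [w, StalkBC.specOf_comp f x RS RX ψ hψ]
      exact cX
    exact bijective_HpullVia m aS aX w G k
      ((H x RS RX ψ hψ PS PX aS bS cS bX m cm _ (L28.AcyComp.isLTorsion_pull aS hG)).1 k hk)

include H in
theorem mono_bcQ_succ (G : EtCoh.Ab T) (hG : EtAcyc.IsLTorsion L G) : Mono (EtBC.bcQ g f h e c.w (n + 1) G) := by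
  let I := Injective.under G
  have hmem : ∀ (U : T.Etale) (s : G.obj.obj (op U)), CompTransfer.IsLocKilled L I ((Injective.ι G).hom.app (op U) s) :=
    fun U s x => by
      obtain ⟨V, g, m, hv, hm, h0⟩ := hG U s x
      refine ⟨V, g, m, hv, hm, ?_⟩
      rw [← NatTrans.naturality_apply (Injective.ι G).hom g.op s, ← map_nsmul, h0, map_zero]
  let u : G ⟶ CompTransfer.tor L I := ⟨{
    app := fun U => AddCommGrpCat.ofHom (((Injective.ι G).hom.app U).hom.codRestrict (CompTransfer.torSub L I U.unop) (hmem U.unop))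
    naturality := fun U V g => AddCommGrpCat.hom_ext (AddMonoidHom.ext fun s =>
      Subtype.ext (NatTrans.naturality_apply (Injective.ι G).hom g s)) }⟩
  haveI : Mono u := mono_of_mono_fac (show u ≫ CompTransfer.torι L I = Injective.ι G from rfl)
  let E : ShortComplex (EtCoh.Ab T) := ShortComplex.mk u (cokernel.π u) (cokernel.condition u)
  have hE : E.ShortExact := { exact := ShortComplex.exact_of_g_is_cokernel _ (cokernelIsCokernel _) }
  exact (StalkBC.step f g h e c hE
    (isIso_bcQ_le f g h e c L n H _ (CompTransfer.isLTorsion_tor L I) n le_rfl)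
    (isIso_bcQ_le f g h e c L n H _ (CompTransfer.isLTorsion_of_epi (cokernel.π u) (CompTransfer.isLTorsion_tor L I)) n le_rfl)
    (CompTransfer.isZero_Rpush_of_acyc g _ (CompTransfer.acyc_tor L I) (n + 1) (Nat.succ_pos n))).1

end Groth.L27.ULA
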