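import Groth.Agent.L27.ULA.Crit
import Groth.Agent.L27.PBC.BcQ
import Groth.Agent.L27.AffineEfface.Effacement
import Groth.Agent.S8537
import Groth.Agent.S0384

/-! # Comparison over finite type schemes over a strictly local base -/

universe u

open CategoryTheory CategoryTheory.Limits AlgebraicGeometry Opposite IsLocalRing

set_option autoImplicit false
set_option backward.isDefEq.respectTransparency.types false
set_option linter.style.haveILetI false
set_option linter.unusedSectionVars false

noncomputable section

namespace Groth.L27.ULA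

variable {S S' : Scheme.{u}} [IsAffine S] [IsAffine S'] (h : S' ⟶ S) {L : Set ℕ} {n : ℕ}
  (hu : EtAcyc.IsULocAcyclicN h L n) (ha : EtAcyc.IsAcyclicN h L n)

include ha in
/-- Comparison over proper schemes over the base. -/
theorem compN_proper {P : Scheme.{u}} (p : P ⟶ S) [IsProper p] : EtAcyc.CompN (pullback.snd h p) L n := by
  haveI : CompactSpace P := QuasiCompact.compactSpace_of_compactSpace p
  haveI : QuasiSeparatedSpace P := quasiSeparatedSpace_of_quasiSeparated p
  haveI := EtSite.preservesFiniteLimits_pull (pullback.snd h p)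
  refine Groth.Agent.S8537.result h p (pullback.snd h p) (pullback.fst h p) (IsPullback.of_hasPullback h p).flip
    L n (compN_self ha) fun Fb hFb => ?_
  have hiso : ∀ i, IsIso (EtBC.bcQ p h (pullback.fst h p) (pullback.snd h p) (IsPullback.of_hasPullback h p).flip.w i Fb) :=
    fun i => PBC.isIso_bcQ p h (pullback.fst h p) (pullback.snd h p) (IsPullback.of_hasPullback h p).flip i Fb
      (AffineEfface.isTorsion_of_isLTorsion hFb)
  haveI := hiso (n + 1)
  exact ⟨fun i _ => hiso i, inferInstance⟩

include hu ha in
/-- Comparison over separated schemes of finite type over the base. -/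
theorem compN_finiteType {U : Scheme.{u}} (s : U ⟶ S) [IsSeparated s] [QuasiCompact s] [LocallyOfFiniteType s] :
    EtAcyc.CompN (pullback.snd h s) L n := by
  obtain ⟨P, j, p, _, _, _, hjp⟩ := Groth.Agent.S0384.result s
  subst hjp
  haveI : CompactSpace P := QuasiCompact.compactSpace_of_compactSpace p
  haveI : QuasiSeparatedSpace P := quasiSeparatedSpace_of_quasiSeparated p
  haveI : CompactSpace U := QuasiCompact.compactSpace_of_compactSpace j
  haveI : QuasiSeparatedSpace U := quasiSeparatedSpace_of_quasiSeparated j
  let hP := pullback.snd h p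
  let hU := pullback.snd h (j ≫ p)
  haveI : QuasiCompact (pullback.fst h p) := MorphismProperty.pullback_fst (P := @QuasiCompact) _ _ inferInstance
  haveI : QuasiSeparated (pullback.fst h p) := MorphismProperty.pullback_fst (P := @QuasiSeparated) _ _ inferInstance
  haveI : CompactSpace ↥(pullback h p) := QuasiCompact.compactSpace_of_compactSpace (pullback.fst h p)
  haveI : QuasiSeparatedSpace ↥(pullback h p) := quasiSeparatedSpace_of_quasiSeparated (pullback.fst h p)
  let jY : pullback h (j ≫ p) ⟶ pullback h p := pullback.lift (pullback.fst h (j ≫ p)) (pullback.snd h (j ≫ p) ≫ j)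
    (by rw [Category.assoc]; exact pullback.condition)
  have c : IsPullback hU jY j hP := (IsPullback.of_right (h₁₁ := jY) (h₁₂ := pullback.fst h p)
    (by rw [pullback.lift_fst]; exact IsPullback.of_hasPullback h (j ≫ p))
    (pullback.lift_snd _ _ _) (IsPullback.of_hasPullback h p)).flip
  haveI := EtSite.preservesFiniteLimits_pull hU
  have hloc : EtAcyc.IsLocAcyclicN hP L n := hu hP (pullback.fst h p) p (IsPullback.of_hasPullback h p)
  have H : ∀ (x : ↥(pullback h p)) (RS : Type u) [CommRing RS] [IsLocalRing RS] [Algebra (P.presheaf.stalk (hP.base x)) RS]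
      [IsLocalHom (algebraMap (P.presheaf.stalk (hP.base x)) RS)] [Hensel.IsStrictHenselization (P.presheaf.stalk (hP.base x)) RS]
      (RX : Type u) [CommRing RX] [IsLocalRing RX] [Algebra ((pullback h p).presheaf.stalk x) RX]
      [IsLocalHom (algebraMap ((pullback h p).presheaf.stalk x) RX)]
      [Hensel.IsStrictHenselization ((pullback h p).presheaf.stalk x) RX]
      (ψ : RS →+* RX) [IsLocalHom ψ],
      ψ.comp (algebraMap (P.presheaf.stalk (hP.base x)) RS) = (algebraMap ((pullback h p).presheaf.stalk x) RX).comp (hP.stalkMap x).hom →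
      ∀ (PS PX : Scheme.{u}) (aS : PS ⟶ U) (bS : PS ⟶ Spec (CommRingCat.of RS))
        (_ : IsPullback aS bS j (Hens2.specOf P (hP.base x) RS))
        (bX : PX ⟶ Spec (CommRingCat.of RX)) (m : PX ⟶ PS)
        (_ : IsPullback bX m (Spec.map (CommRingCat.ofHom ψ)) bS), EtAcyc.CompN m L n := by
    intro x RS _ _ _ _ _ RX _ _ _ _ _ ψ _ hψ PS PX aS bS cS bX m cm
    letI : Algebra RS RX := ψ.toAlgebra
    haveI : IsLocalHom (algebraMap RS RX) := ‹IsLocalHom ψ›
    haveI : IsOpenImmersion bS := MorphismProperty.of_isPullback (P := @IsOpenImmersion) cS inferInstance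
    haveI : AlgebraicGeometry.Etale bS := inferInstance
    exact compN_of_isAcyclicN (hloc x RS RX hψ) (Scheme.Etale.mk bS) cm
  refine Groth.Agent.S8537.result hP j hU jY c L n (compN_proper h ha p) fun Fb hFb => ?_
  exact ⟨fun i hi => isIso_bcQ_le hP j jY hU c L n H Fb hFb i hi, mono_bcQ_succ hP j jY hU c L n H Fb hFb⟩

end Groth.L27.ULA
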