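import Groth.Agent.L27.PBC.TorQis

/-! # `L`-torsion parts of injective complexes with `L`-torsion homology -/

set_option autoImplicit false
set_option linter.style.haveILetI false
set_option linter.unusedSectionVars false
set_option backward.isDefEq.respectTransparency.types false

universe u

open CategoryTheory CategoryTheory.Limits AlgebraicGeometry Opposite

noncomputable section

namespace Groth.L27.ULA

open Groth.L27.CompTransfer
open Groth.L27.PBC (exists_stalk_div exact_eval_cokernel epi_eval_cokernel quasiIso_of_exactAt_cokernel)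

variable {X : Scheme.{u}} (L : Set ℕ)

/-- The torsion part of a morphism. -/
def torMap {F G : EtCoh.Ab X} (φ : F ⟶ G) : tor L F ⟶ tor L G :=
  ⟨{ app := fun U => AddCommGrpCat.ofHom (((φ.hom.app U).hom.comp (torSub L F U.unop).subtype).codRestrict
      (torSub L G U.unop) fun s x => by
        obtain ⟨V, g, m, hv, hm, h0⟩ := s.2 x
        exact ⟨V, g, m, hv, hm, ((congrArg (m • ·) (NatTrans.naturality_apply φ.hom g.op s.1)).symm.trans
          (map_nsmul (φ.hom.app (op V)).hom m _).symm).trans ((congrArg (φ.hom.app (op V)) h0).trans (map_zero _))⟩)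
     naturality := fun U V g => AddCommGrpCat.hom_ext (AddMonoidHom.ext fun s =>
       Subtype.ext (NatTrans.naturality_apply φ.hom g s.1)) }⟩

theorem torMap_ι {F G : EtCoh.Ab X} (φ : F ⟶ G) :
    torMap L φ ≫ torι L G = torι L F ≫ φ := rfl

instance mono_torι (F : EtCoh.Ab X) : Mono (torι L F) := by
  haveI : ∀ U, Mono (((sheafToPresheaf X.smallEtaleTopology AddCommGrpCat.{u + 1}).map (torι L F)).app U) :=
    fun U => (AddCommGrpCat.mono_iff_injective _).2 (torι_injective L F U.unop)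
  haveI := NatTrans.mono_of_mono_app ((sheafToPresheaf X.smallEtaleTopology AddCommGrpCat.{u + 1}).map (torι L F))
  exact (sheafToPresheaf X.smallEtaleTopology AddCommGrpCat.{u + 1}).mono_of_mono_map this

/-- The torsion part as a functor. -/
def torFun : EtCoh.Ab X ⥤ EtCoh.Ab X where
  obj F := tor L F
  map φ := torMap L φ
  map_id F := (cancel_mono (torι L F)).1 (by rw [torMap_ι, Category.comp_id, Category.id_comp])
  map_comp φ ψ := (cancel_mono (torι L _)).1 (by
    rw [torMap_ι, Category.assoc, torMap_ι, ← Category.assoc (torMap L φ), torMap_ι, Category.assoc])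

instance : (torFun L (X := X)).PreservesZeroMorphisms where
  map_zero F G := (cancel_mono (torι L G)).1 (by
    exact ((torMap_ι L (0 : F ⟶ G)).trans comp_zero).trans zero_comp.symm)

section Stalk

variable {Ω : Type u} [Field Ω] [IsSepClosed Ω] (ξ : Spec (CommRingCat.of Ω) ⟶ X)

theorem injective_stalk_torι (F : EtCoh.Ab X) : Function.Injective ((EtCoh.stalk ξ).map (torι L F)) :=
  (EtSite.mono_iff_stalks _).1 inferInstance Ω ξ

/-- Torsion elements of a stalk come from the torsion part. -/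
theorem exists_stalk_torι (F : EtCoh.Ab X) (t : (EtCoh.stalk ξ).obj F) {m : ℕ} (hm : EtAcyc.PrimesIn L m) (h : m • t = 0) :
    ∃ t', (EtCoh.stalk ξ).map (torι L F) t' = t := by
  let Φ := Scheme.pointSmallEtale ξ
  obtain ⟨U, u, s, rfl⟩ := Φ.toPresheafFiber_jointly_surjective (P := F.obj) t
  let τ := (Φ.toPresheafFiber U u F.obj).hom
  have h' : τ (m • s) = τ 0 := (map_nsmul τ m s).trans (h.trans (map_zero τ).symm)
  obtain ⟨V, g, v, hv, hs⟩ := (Φ.toPresheafFiber_eq_iff' (P := F.obj) U u (m • s) 0).1 h'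
  have hs' : m • F.obj.map g.op s = 0 := (map_nsmul (F.obj.map g.op).hom m s).symm.trans (hs.trans (map_zero _))
  refine ⟨Φ.toPresheafFiber V v (tor L F).obj ⟨F.obj.map g.op s, fun x =>
    ⟨V, 𝟙 V, m, ⟨x, rfl⟩, hm,
      (congrArg (m • ·) congr($(F.obj.map_id (op V)) _)).trans hs'⟩⟩, ?_⟩
  refine (Φ.toPresheafFiber_naturality_apply (torι L F).hom V v _).trans ?_
  show Φ.toPresheafFiber V v F.obj (F.obj.map g.op s) = _
  rw [Φ.toPresheafFiber_w_apply, hv]

theorem stalk_torsion {F : EtCoh.Ab X} (hF : EtAcyc.IsLTorsion L F) (t : (EtCoh.stalk ξ).obj F) :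
    ∃ m : ℕ, EtAcyc.PrimesIn L m ∧ m • t = 0 := by
  obtain ⟨m, hm, h⟩ := L28.EtTor.isLTorsion_iff_stalks.1 hF Ω ξ t
  exact ⟨m, hm, h⟩

end Stalk

variable (I : CochainComplex (EtCoh.Ab X) ℤ)

/-- The torsion part of a complex. -/
abbrev torC : CochainComplex (EtCoh.Ab X) ℤ := ((torFun L).mapHomologicalComplex _).obj I

/-- The inclusion of the torsion part. -/
def torCι : torC L I ⟶ I where
  f n := torι L (I.X n)
  comm' i j _ := (torMap_ι L (I.d i j)).symm

instance (n : ℤ) : Mono ((torCι L I).f n) := mono_torι L (I.X n)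

instance : Mono (torCι L I) := HomologicalComplex.mono_of_mono_f _ fun n => inferInstance

theorem quasiIso_torCι [∀ n, Injective (I.X n)] (hH : ∀ n, EtAcyc.IsLTorsion L (I.homology n)) :
    QuasiIso (torCι L I) := by
  refine quasiIso_of_exactAt_cokernel (torCι L I) ?_
  let S : ShortComplex (CochainComplex (EtCoh.Ab X) ℤ) :=
    ShortComplex.mk (torCι L I) (cokernel.π (torCι L I)) (cokernel.condition _)
  change ∀ n, S.X₃.ExactAt n
  intro n
  rw [HomologicalComplex.exactAt_iff' _ (n - 1) n (n + 1) (by simp) (by simp), EtSite.exact_iff_stalks]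
  intro Ω _ _ ξ
  let G := EtCoh.stalk ξ
  rw [ShortComplex.ab_exact_iff]
  intro x hx
  change (G.obj (S.X₃.X n) : Type (u + 1)) at x
  change G.map (S.X₃.d n (n + 1)) x = 0 at hx
  have hπ : ∀ i, Function.Surjective (G.map (S.g.f i)) := fun i =>
    (EtSite.epi_iff_stalks _).1 (epi_eval_cokernel (torCι L I) i) Ω ξ
  have hker : ∀ i (z : G.obj (I.X i)), G.map (S.g.f i) z = 0 ↔ ∃ m : ℕ, EtAcyc.PrimesIn L m ∧ m • z = 0 := fun i z => by
    constructor
    · intro hz
      obtain ⟨t, rfl⟩ := (ShortComplex.ab_exact_iff _).1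
        ((EtSite.exact_iff_stalks _).1 (exact_eval_cokernel (torCι L I) i) Ω ξ) z hz
      obtain ⟨m, hm, hmt⟩ := stalk_torsion L ξ (isLTorsion_tor L (I.X i)) t
      exact ⟨m, hm, (map_nsmul (G.map (torι L (I.X i))).hom m t).symm.trans
        ((congrArg _ hmt).trans (map_zero _))⟩
    · rintro ⟨m, hm, hmz⟩
      obtain ⟨t, rfl⟩ := exists_stalk_torι L ξ (I.X i) z hm hmz
      show G.map (S.g.f i) (G.map (S.f.f i) t) = 0
      rw [← ConcreteCategory.comp_apply, ← G.map_comp, ← HomologicalComplex.comp_f, S.zero,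
        HomologicalComplex.zero_f, G.map_zero]
      rfl
  have hd : ∀ i j (z : G.obj (I.X i)),
      G.map (S.X₃.d i j) (G.map (S.g.f i) z) = G.map (S.g.f j) (G.map (I.d i j) z) := fun i j z => by
    rw [← ConcreteCategory.comp_apply, ← ConcreteCategory.comp_apply, ← G.map_comp, ← G.map_comp, S.g.comm]
  obtain ⟨z, rfl⟩ := hπ n x
  obtain ⟨m, hm, hmdz⟩ := (hker (n + 1) _).1 ((hd n (n + 1) z).symm.trans hx)
  have hmz : G.map (I.d n (n + 1)) (m • z) = 0 := (map_nsmul (G.map (I.d n (n + 1))).hom m z).trans hmdz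
  -- the class of `m • z` is torsion
  let T := (I.sc' (n - 1) n (n + 1)).map G
  let e : T.homology ≅ G.obj (I.homology n) :=
    ((I.sc' (n - 1) n (n + 1)).mapHomologyIso G) ≪≫ G.mapIso
      ((I.homologyIsoSc' (n - 1) n (n + 1) (by simp) (by simp)).symm)
  obtain ⟨c, hc⟩ : ∃ c : T.cycles, T.iCycles c = m • z := by
    exact ⟨_, T.abCyclesIso_inv_apply_iCycles ⟨m • z, hmz⟩⟩
  obtain ⟨k, hk, hkc⟩ := stalk_torsion L ξ (hH n) (e.hom (T.homologyπ c))
  have hkc' : T.homologyπ (k • c) = 0 := by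
    refine (ConcreteCategory.bijective_of_isIso e.hom).1 ?_
    rw [map_zero, map_nsmul, map_nsmul, hkc]
  obtain ⟨w, hw⟩ := (ShortComplex.ab_exact_iff (ShortComplex.mk _ _ T.toCycles_comp_homologyπ)).1
    (ShortComplex.exact_of_g_is_cokernel _ T.homologyIsCokernel) (k • c) hkc'
  change (G.obj (I.X (n - 1)) : Type (u + 1)) at w
  change T.toCycles w = k • c at hw
  have hdw : G.map (I.d (n - 1) n) w = (k * m) • z := by
    have := congr($(T.toCycles_i) w)
    rw [ConcreteCategory.comp_apply, hw, map_nsmul, hc] at this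
    exact this.symm.trans (mul_nsmul' z k m).symm
  obtain ⟨w', rfl⟩ := exists_stalk_div ξ (I.X (n - 1)) w (L28.EtTor.primesIn_mul hk hm).1
  refine ⟨G.map (S.g.f (n - 1)) w', ?_⟩
  show G.map (S.X₃.d (n - 1) n) (G.map (S.g.f (n - 1)) w') = G.map (S.g.f n) z
  rw [hd]
  refine (sub_eq_zero.1 ?_).symm
  rw [← map_sub]
  refine (hker n _).2 ⟨k * m, L28.EtTor.primesIn_mul hk hm, ?_⟩
  rw [nsmul_sub, ← hdw]
  exact sub_eq_zero.2 (map_nsmul (G.map (I.d (n - 1) n)).hom (k * m) w')

end Groth.L27.ULA
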